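import Mathlib.AlgebraicGeometry.OrderOfVanishing
import Mathlib.RingTheory.UniqueFactorizationDomain.Basic
import Mathlib.RingTheory.DiscreteValuationRing.TFAE
import Mathlib.RingTheory.Ideal.Height
import Mathlib.RingTheory.Ideal.KrullsHeightTheorem

/-!
# Orders of vanishing: compatibility with open immersions, and divisors on a factorial affine scheme
-/

set_option autoImplicit false
universe u
open CategoryTheory AlgebraicGeometry TopologicalSpace

namespace Groth.Agent.Lib.WDivOrd

theorem ordFrac_map {R R' K K' : Type u} [CommRing R] [CommRing R'] [IsDomain R] [IsDomain R']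
    [IsDiscreteValuationRing R] [IsDiscreteValuationRing R'] [Field K] [Field K'] [Algebra R K]
    [IsFractionRing R K] [Algebra R' K'] [IsFractionRing R' K'] (e : R ≃+* R') (θ : K →+* K')
    (h : ∀ a, θ (algebraMap R K a) = algebraMap R' K' (e a)) (x : K) :
    Ring.ordFrac R' (θ x) = Ring.ordFrac R x := by
  obtain ⟨ϖ, hϖ⟩ := IsDiscreteValuationRing.exists_irreducible R
  have hϖ' : Irreducible (e ϖ) := (MulEquiv.irreducible_iff e.toMulEquiv).mpr hϖ
  have key : ∀ a : R, Ring.ordFrac R' (θ (algebraMap R K a)) = Ring.ordFrac R (algebraMap R K a) := by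
    intro a
    rcases eq_or_ne a 0 with rfl | ha
    · simp
    obtain ⟨n, u, rfl⟩ := IsDiscreteValuationRing.eq_unit_mul_pow_irreducible ha hϖ
    rw [h]
    simp only [map_mul, map_pow]
    rw [Ring.ordFrac_of_isUnit u.isUnit, Ring.ordFrac_of_isUnit (u.isUnit.map e),
      Ring.ordFrac_irreducible hϖ, Ring.ordFrac_irreducible hϖ']
  obtain ⟨a, b, -, rfl⟩ := IsFractionRing.div_surjective (A := R) x
  rw [map_div₀, map_div₀, map_div₀, key, key]

section OpenImmersion

variable {U X : Scheme.{u}} [IsIntegral U] [IsIntegral X] (f : U ⟶ X) [IsOpenImmersion f]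

/-- The map of function fields induced by an open immersion. -/
noncomputable def ffHom : X.functionField ⟶ U.functionField :=
  X.presheaf.stalkSpecializes
    (Inseparable.of_eq (genericPoint_eq_of_isOpenImmersion f)).specializes ≫
    f.stalkMap (genericPoint U)

theorem ffHom_bijective : Function.Bijective (ffHom f).hom := by
  have h1 : IsIso (X.presheaf.stalkSpecializes
      (Inseparable.of_eq (genericPoint_eq_of_isOpenImmersion f)).specializes) :=
    (X.presheaf.stalkCongr (Inseparable.of_eq (genericPoint_eq_of_isOpenImmersion f).symm)).isIso_hom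
  have : IsIso (ffHom f) := IsIso.comp_isIso
  exact ConcreteCategory.bijective_of_isIso (ffHom f)

theorem algebraMap_stalk_comp_ffHom (u : U) (a : X.presheaf.stalk (f u)) :
    (ffHom f).hom (algebraMap (X.presheaf.stalk (f u)) X.functionField a) =
      algebraMap (U.presheaf.stalk u) U.functionField ((f.stalkMap u).hom a) := by
  show (X.presheaf.stalkSpecializes ((genericPoint_spec X).specializes trivial) ≫ ffHom f) a =
    (f.stalkMap u ≫ U.presheaf.stalkSpecializes ((genericPoint_spec U).specializes trivial)) a
  rw [← Scheme.Hom.stalkSpecializes_stalkMap f (genericPoint U) u ((genericPoint_spec U).specializes trivial),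
    ffHom, TopCat.Presheaf.stalkSpecializes_comp_assoc]

theorem ord_ffHom [IsLocallyNoetherian U] [IsLocallyNoetherian X] (u : U)
    [IsDiscreteValuationRing (X.presheaf.stalk (f u))] (g : X.functionField) :
    Scheme.ord ((ffHom f).hom g) u = Scheme.ord g (f u) := by
  by_cases hu : Order.coheight u = 1
  · have hfu : Order.coheight (f u) = 1 := (coheight_eq_of_isOpenImmersion f).trans hu
    let e : X.presheaf.stalk (f u) ≃+* U.presheaf.stalk u :=
      (asIso (f.stalkMap u)).commRingCatIsoToRingEquiv
    haveI : IsDiscreteValuationRing (U.presheaf.stalk u) := IsDiscreteValuationRing.RingEquivClass.isDiscreteValuationRing e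
    rw [Scheme.ord_eq_ordHom_of_coheight_eq_one hu, Scheme.ord_eq_ordHom_of_coheight_eq_one hfu]
    have := ordFrac_map (K := X.functionField) (K' := U.functionField) e (ffHom f).hom
      (algebraMap_stalk_comp_ffHom f u) g
    show Multiplicative.toAdd ((Ring.ordFrac (U.presheaf.stalk u) _).unzeroD 1) = _
    rw [this]
    rfl
  · have hfu : Order.coheight (f u) ≠ 1 := fun h => hu ((coheight_eq_of_isOpenImmersion f).symm.trans h)
    rw [Scheme.ord_eq_zero_of_coheight_neq_one hu, Scheme.ord_eq_zero_of_coheight_neq_one hfu]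

end OpenImmersion

section Factorial

variable (A : Type u) [CommRing A] [IsDomain A] [IsNoetherianRing A] [UniqueFactorizationMonoid A]

theorem exists_prime_span {P : Ideal A} [P.IsPrime] (hP : P.height = 1) :
    ∃ π : A, Prime π ∧ P = Ideal.span {π} := by
  have hne : P ≠ ⊥ := by rintro rfl; simp at hP
  obtain ⟨π, hπP, hπ⟩ := Ideal.IsPrime.exists_mem_prime_of_ne_bot ‹_› hne
  refine ⟨π, hπ, le_antisymm ?_ (by simpa [Ideal.span_le] using hπP)⟩
  by_contra hle
  have hp : (Ideal.span {π}).IsPrime := (Ideal.span_singleton_prime hπ.ne_zero).mpr hπ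
  have hlt : Ideal.span {π} < P := lt_of_le_not_ge (by simpa [Ideal.span_le] using hπP) hle
  have h1 := Ideal.height_strict_mono_of_isPrime hlt
  have hpos : (⊥ : Ideal A) < Ideal.span {π} := bot_lt_iff_ne_bot.mpr fun h =>
    hπ.ne_zero (Ideal.span_singleton_eq_bot.mp h)
  have h0 : (Ideal.span {π}).height ≠ 0 := by
    have := Ideal.height_strict_mono_of_isPrime hpos
    exact fun h => by simp [h] at this
  rw [hP] at h1
  exact h0 (ENat.lt_one_iff_eq_zero.mp h1)

theorem exists_ord_eq (D : ↥(Spec (CommRingCat.of A)) → ℤ)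
    (hD : ∀ x, Order.coheight x ≠ 1 → D x = 0) (hfin : {x | D x ≠ 0}.Finite) :
    ∃ f : (Spec (CommRingCat.of A)).functionField, f ≠ 0 ∧
      ∀ x : ↥(Spec (CommRingCat.of A)), Order.coheight x = 1 → Scheme.ord f x = D x := by
  classical
  haveI : IsDomain (CommRingCat.of A) := inferInstanceAs (IsDomain A)
  let K : Type u := (Spec (CommRingCat.of A)).functionField
  letI : Field K := inferInstanceAs (Field (Spec (CommRingCat.of A)).functionField)
  letI : Algebra (CommRingCat.of A) K := instAlgebraCarrierFunctionFieldSpec (CommRingCat.of A)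
  haveI : IsFractionRing (CommRingCat.of A) K := functionField_isFractionRing_of_affine (CommRingCat.of A)
  have hinj : Function.Injective (algebraMap (CommRingCat.of A) K) :=
    IsFractionRing.injective (CommRingCat.of A) K
  have hex : ∀ x : ↥(Spec (CommRingCat.of A)), Order.coheight x = 1 →
      ∃ π : CommRingCat.of A, Prime π ∧ x.asIdeal = Ideal.span {π} := fun x hx => by
    haveI := x.isPrime
    exact exists_prime_span A (P := x.asIdeal) ((idealHeight_eq_coheight _ x).trans hx)
  choose! π hπ hspan using hex
  let s := hfin.toFinset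
  have hs : ∀ x ∈ s, Order.coheight x = 1 := fun x hx => by
    by_contra h
    exact hfin.mem_toFinset.mp hx (hD x h)
  let t : ↥(Spec (CommRingCat.of A)) → K := fun y => algebraMap (CommRingCat.of A) K (π y)
  have ht : ∀ y ∈ s, t y ≠ 0 := fun y hy =>
    (map_ne_zero_iff _ hinj).mpr (hπ y (hs y hy)).ne_zero
  refine ⟨∏ y ∈ s, t y ^ D y, Finset.prod_ne_zero_iff.mpr fun y hy => zpow_ne_zero _ (ht y hy),
    fun x hx => ?_⟩
  rw [Scheme.ord_eq_iff hx (Finset.prod_ne_zero_iff.mpr fun y hy => zpow_ne_zero _ (ht y hy))]
  let R := (Spec (CommRingCat.of A)).presheaf.stalk x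
  letI : Algebra (CommRingCat.of A) R := StructureSheaf.stalkAlgebra (CommRingCat.of A) x
  haveI : x.asIdeal.IsPrime := x.isPrime
  haveI : IsLocalization.AtPrime R x.asIdeal := StructureSheaf.IsLocalization.to_stalk (CommRingCat.of A) x
  haveI : IsNoetherianRing R := IsLocalization.isNoetherianRing x.asIdeal.primeCompl R inferInstance
  have hmax : IsLocalRing.maximalIdeal R = Ideal.span {algebraMap (CommRingCat.of A) R (π x)} := by
    rw [← IsLocalization.AtPrime.map_eq_maximalIdeal x.asIdeal R, hspan x hx, Ideal.map_span,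
      Set.image_singleton]
  have hπR : algebraMap (CommRingCat.of A) R (π x) ≠ 0 :=
    (map_ne_zero_iff _ (IsLocalization.injective R x.asIdeal.primeCompl_le_nonZeroDivisors)).mpr
      (hπ x hx).ne_zero
  haveI : IsDiscreteValuationRing R := by
    have hf : ¬ IsField R := fun hf => by
      rw [IsLocalRing.isField_iff_maximalIdeal_eq, hmax, Ideal.span_singleton_eq_bot] at hf
      exact hπR hf
    exact ((IsDiscreteValuationRing.TFAE R hf).out 0 4).mpr
      (⟨⟨_, hmax⟩⟩ : (IsLocalRing.maximalIdeal R).IsPrincipal)
  have hϖ : Irreducible (algebraMap (CommRingCat.of A) R (π x)) :=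
    (IsDiscreteValuationRing.irreducible_iff_uniformizer _).mpr hmax
  have hcompat : ∀ a, algebraMap R K (algebraMap (CommRingCat.of A) R a) =
      algebraMap (CommRingCat.of A) K a := fun a => by
    exact congr(($(StructureSheaf.toStalk_stalkSpecializes (R := CommRingCat.of A)
      ((genericPoint_spec (Spec (CommRingCat.of A))).specializes (trivial : x ∈ _)))) a)
  have hone : ∀ y ∈ s, y ≠ x → Scheme.ordHom x hx (t y) = 1 := by
    intro y hy hne
    show Ring.ordFrac R (algebraMap (CommRingCat.of A) K (π y)) = 1
    rw [← hcompat]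
    refine Ring.ordFrac_of_isUnit (IsLocalization.map_units R (⟨π y, fun h => hne ?_⟩ : x.asIdeal.primeCompl))
    rw [hspan x hx] at h
    replace h : π x ∣ π y := Ideal.mem_span_singleton.mp h
    have hass := (hπ x hx).associated_of_dvd (hπ y (hs y hy)) h
    apply PrimeSpectrum.ext
    rw [hspan x hx, hspan y (hs y hy), Ideal.span_singleton_eq_span_singleton]
    exact hass.symm
  have hself : Scheme.ordHom x hx (t x) = WithZero.exp 1 := by
    show Ring.ordFrac R (algebraMap (CommRingCat.of A) K (π x)) = _
    rw [← hcompat]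
    exact Ring.ordFrac_irreducible hϖ
  rw [map_prod]
  by_cases hxs : x ∈ s
  · rw [Finset.prod_eq_single x (fun y hy hne => by rw [map_zpow₀, hone y hy hne, one_zpow])
      (fun h => (h hxs).elim), map_zpow₀, hself]
    rw [← WithZero.exp_zsmul, smul_eq_mul, mul_one]
    rfl
  · rw [Finset.prod_eq_one fun y hy => by
      rw [map_zpow₀, hone y hy (fun h => hxs (h ▸ hy)), one_zpow]]
    rw [show D x = 0 by simpa [s] using hxs]
    rfl

end Factorial

end Groth.Agent.Lib.WDivOrd
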