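import Mathlib.LinearAlgebra.Matrix.GeneralLinearGroup.Defs
import Mathlib.LinearAlgebra.Matrix.ToLinearEquiv
import Mathlib.LinearAlgebra.FreeModule.PID
import Mathlib.RingTheory.Localization.FractionRing
import Mathlib.RingTheory.Localization.Module
import Mathlib.GroupTheory.OrderOfElement

/-!
# An element of finite order of `GL_N` of a fraction field stabilizes a lattice
-/

set_option autoImplicit false
universe u
open Matrix

namespace Groth.Agent.Lib.WDivOrd

variable {R K : Type u} [CommRing R] [IsDomain R] [IsPrincipalIdealRing R] [Field K] [Algebra R K]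
  [IsFractionRing R K]

theorem exists_conj_mem_GL (N : ℕ) (g : GL (Fin N) K) (hg : IsOfFinOrder g) :
    ∃ (h : GL (Fin N) K) (g' : GL (Fin N) R),
      h * g * h⁻¹ = Matrix.GeneralLinearGroup.map (algebraMap R K) g' := by
  classical
  obtain ⟨m, hm, hgm⟩ := isOfFinOrder_iff_pow_eq_one.mp hg
  let V := Fin N → K
  let gen : Fin m × Fin N → V := fun kj => ((g ^ (kj.1 : ℕ) : GL (Fin N) K) : Matrix _ _ K) *ᵥ Pi.single kj.2 1
  let M : Submodule R V := Submodule.span R (Set.range gen)
  have hgen : ∀ (k : ℕ) (j : Fin N), ((g ^ k : GL (Fin N) K) : Matrix _ _ K) *ᵥ Pi.single j 1 ∈ M := by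
    intro k j
    refine Submodule.subset_span ⟨(⟨k % m, Nat.mod_lt _ hm⟩, j), ?_⟩
    show ((g ^ (k % m) : GL (Fin N) K) : Matrix (Fin N) (Fin N) K) *ᵥ _ = _
    rw [← pow_eq_pow_mod k hgm]
  have hstab : ∀ (k : ℕ), ∀ v ∈ M, ((g ^ k : GL (Fin N) K) : Matrix _ _ K) *ᵥ v ∈ M := by
    intro k v hv
    induction hv using Submodule.span_induction with
    | mem v hv =>
      obtain ⟨⟨a, j⟩, rfl⟩ := hv
      simp only [gen, Matrix.mulVec_mulVec, ← Units.val_mul, ← pow_add]
      exact hgen _ _
    | zero => simp
    | add v w _ _ hv hw => rw [Matrix.mulVec_add]; exact M.add_mem hv hw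
    | smul r v _ hv => rw [Matrix.mulVec_smul]; exact M.smul_mem r hv
  haveI : Module.Finite R M := Module.Finite.iff_fg.mpr (Submodule.fg_span (Set.finite_range gen))
  haveI : Module.IsTorsionFree R M := inferInstance
  haveI : Module.Free R M := inferInstance
  let b := Module.Free.chooseBasis R M
  let v : Module.Free.ChooseBasisIndex R M → V := fun i => (b i : V)
  have hli : LinearIndependent K v :=
    (LinearIndependent.iff_fractionRing (R := R) (K := K)).mp
      (b.linearIndependent.map' M.subtype M.ker_subtype)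
  have hspanM : ∀ w ∈ M, w ∈ Submodule.span K (Set.range v) := by
    intro w hw
    have : (⟨w, hw⟩ : M) = ∑ i, b.repr ⟨w, hw⟩ i • b i := (b.sum_repr _).symm
    rw [show w = ((⟨w, hw⟩ : M) : V) from rfl, this, Submodule.coe_sum]
    refine Submodule.sum_mem _ fun i _ => ?_
    rw [Submodule.coe_smul, ← algebraMap_smul K]
    exact Submodule.smul_mem _ _ (Submodule.subset_span ⟨i, rfl⟩)
  have htop : ⊤ ≤ Submodule.span K (Set.range v) := by
    rw [← (Pi.basisFun K (Fin N)).span_eq, Submodule.span_le]
    rintro _ ⟨j, rfl⟩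
    refine hspanM _ ?_
    have := hgen 0 j
    rw [pow_zero, Units.val_one, Matrix.one_mulVec] at this
    simpa using this
  let B : Module.Basis _ K V := Module.Basis.mk hli htop
  let e := B.indexEquiv (Pi.basisFun K (Fin N))
  let b' := b.reindex e
  let P : Matrix (Fin N) (Fin N) K := Matrix.of fun i j => (b' j : V) i
  have hP : IsUnit P := by
    rw [← Matrix.linearIndependent_cols_iff_isUnit]
    show LinearIndependent K (fun j => fun i => (b' j : V) i)
    convert hli.comp e.symm e.symm.injective using 1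
    ext j i
    simp [b', v]
  let G : ℕ → Matrix (Fin N) (Fin N) R := fun k => Matrix.of fun j i =>
    b'.repr ⟨_, hstab k _ (b' i).2⟩ j
  have hG : ∀ k, ((g ^ k : GL (Fin N) K) : Matrix _ _ K) * P = P * (G k).map (algebraMap R K) := by
    intro k
    ext a i
    have h0 := congrArg (fun x : M => (x : V)) (b'.sum_repr ⟨_, hstab k _ (b' i).2⟩)
    simp only [Submodule.coe_sum, Submodule.coe_smul] at h0
    have h1 : ∑ j, algebraMap R K (G k j i) * (b' j : V) a =
        (((g ^ k : GL (Fin N) K) : Matrix (Fin N) (Fin N) K) *ᵥ (b' i : V)) a :=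
      ((Finset.sum_congr rfl fun j _ => (Algebra.smul_def (G k j i) ((b' j : V) a)).symm).trans
        (Finset.sum_apply a Finset.univ fun j => G k j i • (b' j : V)).symm).trans (congrFun h0 a)
    rw [Matrix.mul_apply, Matrix.mul_apply]
    refine Eq.trans ?_ (h1.symm.trans (Finset.sum_congr rfl fun j _ => mul_comm _ _))
    rfl
  have hinj : Function.Injective (fun A : Matrix (Fin N) (Fin N) R => A.map (algebraMap R K)) :=
    Matrix.map_injective (IsFractionRing.injective R K)
  have hone : ∀ k l, k + l = m → G k * G l = 1 := by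
    intro k l hkl
    apply hinj
    show (G k * G l).map (algebraMap R K) = (1 : Matrix _ _ R).map (algebraMap R K)
    apply hP.mul_left_cancel
    rw [Matrix.map_mul, ← mul_assoc, ← hG, mul_assoc, ← hG, ← mul_assoc, ← Units.val_mul, ← pow_add,
      hkl, hgm, Units.val_one, one_mul, Matrix.map_one _ (map_zero _) (map_one _), mul_one]
  let g' : GL (Fin N) R := ⟨G 1, G (m - 1), hone _ _ (by omega), hone _ _ (by omega)⟩
  refine ⟨hP.unit⁻¹, g', ?_⟩
  rw [inv_inv, mul_assoc, inv_mul_eq_iff_eq_mul]
  refine Units.ext ?_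
  have h1 := hG 1
  rw [pow_one] at h1
  exact h1

end Groth.Agent.Lib.WDivOrd
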