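import Mathlib.RingTheory.Ideal.Height
import Mathlib.RingTheory.Ideal.KrullsHeightTheorem
import Mathlib.RingTheory.DiscreteValuationRing.TFAE
import Mathlib.RingTheory.Polynomial.Basic
import Mathlib.RingTheory.Localization.AtPrime.Basic
import Mathlib.FieldTheory.RatFunc.Basic

/-!
# Height one primes of polynomial rings and regularity in codimension one
-/

set_option autoImplicit false
universe u
open Polynomial

namespace Groth.Agent.Lib.WDivOrd

variable {A : Type u} [CommRing A] [IsDomain A]

theorem height_le_one_of_forall [IsNoetherianRing A] {p : Ideal A} [p.IsPrime]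
    (h : ∀ q : Ideal A, q.IsPrime → q < p → q = ⊥) : p.height ≤ 1 := by
  refine Ideal.height_le_iff.mpr fun q hq hlt => ?_
  rw [h q hq hlt]
  simp

theorem contraction_cases [IsNoetherianRing A] (P : Ideal A[X]) [P.IsPrime] (hP : P.height = 1) :
    P.comap (C : A →+* A[X]) = ⊥ ∨
      ((P.comap (C : A →+* A[X])).height = 1 ∧ P = (P.comap (C : A →+* A[X])).map C) := by
  by_cases h0 : P.comap (C : A →+* A[X]) = ⊥
  · exact Or.inl h0
  right
  set p := P.comap (C : A →+* A[X])
  haveI : (p.map (C : A →+* A[X])).IsPrime := Ideal.isPrime_map_C_of_isPrime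
  have hle : p.map C ≤ P := Ideal.map_comap_le
  have hne : p.map (C : A →+* A[X]) ≠ ⊥ := fun h =>
    h0 ((Ideal.map_eq_bot_iff_of_injective C_injective).mp h)
  have key : ∀ Q : Ideal A[X], Q.IsPrime → Q < P → Q = ⊥ := by
    intro Q hQ hQP
    by_contra hQ0
    have h1 := Ideal.height_strict_mono_of_isPrime (I := (⊥ : Ideal A[X])) (bot_lt_iff_ne_bot.mpr hQ0)
    have h2 := Ideal.height_strict_mono_of_isPrime hQP
    rw [hP] at h2
    rw [ENat.lt_one_iff_eq_zero.mp h2] at h1
    exact (not_lt_bot (α := ℕ∞)) h1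
  have heq : P = p.map C := by
    by_contra hne'
    exact hne (key _ inferInstance (lt_of_le_of_ne hle (Ne.symm hne')))
  refine ⟨le_antisymm (height_le_one_of_forall fun q hq hqp => ?_) ?_, heq⟩
  · haveI : (q.map (C : A →+* A[X])).IsPrime := Ideal.isPrime_map_C_of_isPrime
    refine (Ideal.map_eq_bot_iff_of_injective (C_injective (R := A))).mp (key _ inferInstance ?_)
    rw [heq]
    refine lt_of_le_of_ne (Ideal.map_mono hqp.le) fun h => hqp.ne ?_
    ext a
    have := congrArg (fun I : Ideal A[X] => C a ∈ I) h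
    simpa [Ideal.mem_map_C_iff, coeff_C, apply_ite] using this
  · rw [Order.one_le_iff_pos]
    have := Ideal.height_strict_mono_of_isPrime (I := (⊥ : Ideal A)) (J := p) (bot_lt_iff_ne_bot.mpr h0)
    exact lt_of_le_of_lt bot_le this

theorem isDiscreteValuationRing_of_locally_principal {R : Type u} [CommRing R] [IsDomain R]
    [IsNoetherianRing R] {P : Ideal R} [P.IsPrime] (γ : R) (hγ : γ ∈ P) (hγ0 : γ ≠ 0)
    (h : ∀ x ∈ P, ∃ t ∉ P, γ ∣ t * x) : IsDiscreteValuationRing (Localization.AtPrime P) := by
  let L := Localization.AtPrime P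
  have hmax : IsLocalRing.maximalIdeal L = Ideal.span {algebraMap R L γ} := by
    rw [← IsLocalization.AtPrime.map_eq_maximalIdeal P L]
    refine le_antisymm (Ideal.map_le_iff_le_comap.mpr fun x hx => ?_) ?_
    · obtain ⟨t, ht, c, hc⟩ := h x hx
      rw [Ideal.mem_comap, Ideal.mem_span_singleton]
      have hu : IsUnit (algebraMap R L t) := IsLocalization.map_units L (⟨t, ht⟩ : P.primeCompl)
      rw [← hu.dvd_mul_left, ← map_mul, hc, map_mul]
      exact dvd_mul_right _ _
    · rw [Ideal.span_le, Set.singleton_subset_iff]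
      exact Ideal.mem_map_of_mem _ hγ
  have hf : ¬ IsField L := fun hf => by
    rw [IsLocalRing.isField_iff_maximalIdeal_eq, hmax, Ideal.span_singleton_eq_bot,
      map_eq_zero_iff _ (IsLocalization.injective L P.primeCompl_le_nonZeroDivisors)] at hf
    exact hγ0 hf
  exact ((IsDiscreteValuationRing.TFAE L hf).out 0 4).mpr
    (⟨⟨_, hmax⟩⟩ : (IsLocalRing.maximalIdeal L).IsPrincipal)

theorem isDiscreteValuationRing_polynomial [IsNoetherianRing A]
    (hR1 : ∀ (p : Ideal A) [p.IsPrime], p.height = 1 → IsDiscreteValuationRing (Localization.AtPrime p))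
    (P : Ideal A[X]) [P.IsPrime] (hP : P.height = 1) :
    IsDiscreteValuationRing (Localization.AtPrime P) := by
  classical
  have hPne : P ≠ ⊥ := by rintro rfl; simp at hP
  rcases contraction_cases P hP with h0 | ⟨hp, hPeq⟩
  · let K := FractionRing A
    letI : Algebra A[X] K[X] := Polynomial.algebra A K
    haveI : IsLocalization ((nonZeroDivisors A).map (C : A →+* A[X])) K[X] :=
      Polynomial.isLocalization _ K
    obtain ⟨g, hg⟩ := IsPrincipalIdealRing.principal (P.map (algebraMap A[X] K[X]))
    have hg' : g ∈ P.map (algebraMap A[X] K[X]) := hg ▸ Submodule.mem_span_singleton_self g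
    obtain ⟨⟨γ, s⟩, hs⟩ := (IsLocalization.mem_map_algebraMap_iff
      ((nonZeroDivisors A).map (C : A →+* A[X])) K[X]).mp hg'
    have hinj : Function.Injective (algebraMap A[X] K[X]) :=
      Polynomial.map_injective _ (IsFractionRing.injective A K)
    have hnot : ∀ t : ((nonZeroDivisors A).map (C : A →+* A[X])), (t : A[X]) ∉ P := by
      rintro ⟨_, a, ha, rfl⟩ h
      have : a ∈ P.comap (C : A →+* A[X]) := h
      rw [h0] at this
      exact nonZeroDivisors.ne_zero ha this
    have hu := IsLocalization.map_units K[X] s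
    refine isDiscreteValuationRing_of_locally_principal (γ : A[X]) γ.2 (fun hγ => hPne ?_) ?_
    · rw [hγ, map_zero, hu.mul_left_eq_zero] at hs
      rw [hs] at hg
      refine (Ideal.map_eq_bot_iff_of_injective hinj).mp ?_
      rw [hg]
      exact Ideal.span_singleton_eq_bot.mpr rfl
    · intro x hx
      have hx' : algebraMap A[X] K[X] x ∈ P.map (algebraMap A[X] K[X]) := Ideal.mem_map_of_mem _ hx
      rw [hg] at hx'
      obtain ⟨q, hq⟩ := Submodule.mem_span_singleton.mp hx'
      obtain ⟨⟨q₀, t⟩, ht⟩ := IsLocalization.surj ((nonZeroDivisors A).map (C : A →+* A[X])) q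
      refine ⟨(s : A[X]) * t, fun h => (Ideal.IsPrime.mem_or_mem ‹_› h).elim (hnot s) (hnot t), ?_⟩
      have : algebraMap A[X] K[X] ((γ : A[X]) * q₀) = algebraMap A[X] K[X] ((s : A[X]) * (t * x)) := by
        simp only [map_mul, ← hs, ← ht, ← hq, smul_eq_mul]
        ring
      exact ⟨q₀, by rw [mul_assoc]; exact (hinj this).symm⟩
  · set p := P.comap (C : A →+* A[X])
    haveI := hR1 p hp
    obtain ⟨ϖ, hϖ⟩ := IsDiscreteValuationRing.exists_irreducible (Localization.AtPrime p)
    obtain ⟨⟨γ, s⟩, hs⟩ := IsLocalization.surj p.primeCompl ϖ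
    have hu := IsLocalization.map_units (Localization.AtPrime p) s
    have hmax := (IsDiscreteValuationRing.irreducible_iff_uniformizer ϖ).mp hϖ
    have hγp : γ ∈ p := by
      rw [← IsLocalization.AtPrime.comap_maximalIdeal (Localization.AtPrime p) p, Ideal.mem_comap,
        hmax, ← hs, Ideal.mem_span_singleton]
      exact dvd_mul_right _ _
    refine isDiscreteValuationRing_of_locally_principal (C γ) hγp
      (fun h => hϖ.ne_zero ?_) ?_
    · rw [C_eq_zero] at h
      rwa [h, map_zero, hu.mul_left_eq_zero] at hs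
    · have hbase : ∀ a ∈ p, ∃ t ∉ p, γ ∣ t * a := by
        intro a ha
        have ha' : algebraMap A (Localization.AtPrime p) a ∈ IsLocalRing.maximalIdeal _ := by
          rw [← IsLocalization.AtPrime.map_eq_maximalIdeal p]
          exact Ideal.mem_map_of_mem _ ha
        rw [hmax, Ideal.mem_span_singleton] at ha'
        obtain ⟨q, hq⟩ := ha'
        obtain ⟨⟨b, t⟩, ht⟩ := IsLocalization.surj p.primeCompl q
        have : algebraMap A (Localization.AtPrime p) (γ * b) =
            algebraMap A (Localization.AtPrime p) ((s : A) * t * a) := by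
          simp only [map_mul, hq, ← hs, ← ht]
          ring
        exact ⟨(s : A) * t, p.primeCompl.mul_mem s.2 t.2,
          b, (IsLocalization.injective _ p.primeCompl_le_nonZeroDivisors this).symm⟩
      choose! t ht hdvd using hbase
      intro f hf
      rw [hPeq] at hf
      refine ⟨C (∏ i ∈ f.support, t (f.coeff i)), ?_, ?_⟩
      · intro h
        obtain ⟨i, -, hi⟩ := (Ideal.IsPrime.prod_mem_iff (p := p)).1 h
        exact ht _ (Ideal.mem_map_C_iff.mp hf i) hi
      · rw [C_dvd_iff_dvd_coeff]
        intro i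
        rw [coeff_C_mul]
        by_cases hi : i ∈ f.support
        · rw [← Finset.prod_erase_mul _ _ hi, mul_assoc]
          exact (hdvd _ (Ideal.mem_map_C_iff.mp hf i)).mul_left _
        · rw [notMem_support_iff.mp hi, mul_zero]
          exact dvd_zero _

end Groth.Agent.Lib.WDivOrd
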